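import Mathlib

/-!
Connected cocommutative bialgebras in characteristic zero: the slices `f ⊳ x`, monomials in a basis
of the primitives, their independence and the fact that they span.
-/

namespace Groth.Agent.MilnorMoore

open TensorProduct Coalgebra

universe u v w

variable {k : Type u} [Field k] {H : Type v} [Ring H] [Bialgebra k H]

/-- `(id ⊗ f)` on a tensor. -/
noncomputable def ev2 (f : H →ₗ[k] k) : H ⊗[k] H →ₗ[k] H :=
  (TensorProduct.rid k H).toLinearMap ∘ₗ f.lTensor H

@[simp] theorem ev2_tmul (f : H →ₗ[k] k) (a b : H) : ev2 f (a ⊗ₜ b) = f b • a := by simp [ev2]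

/-- `f ⊳ x = (id ⊗ f) Δ x`. -/
noncomputable def slice (f : H →ₗ[k] k) : H →ₗ[k] H := ev2 f ∘ₗ Coalgebra.comul

theorem slice_apply (f : H →ₗ[k] k) (x : H) : slice f x = ev2 f (Coalgebra.comul x) := rfl

theorem ev2_ext {t : H ⊗[k] H} (h : ∀ f : H →ₗ[k] k, ev2 f t = 0) : t = 0 := by
  classical
  let b := Module.Basis.ofVectorSpace k H
  apply (TensorProduct.equivFinsuppOfBasisRight (M := H) b).injective
  rw [map_zero]
  ext i
  rw [Finsupp.zero_apply, ← h (b.coord i)]
  clear h
  induction t using TensorProduct.induction_on with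
  | zero => simp
  | tmul x y => rw [TensorProduct.equivFinsuppOfBasisRight_apply_tmul_apply, ev2_tmul]; rfl
  | add s t hs ht => rw [map_add, Finsupp.add_apply, hs, ht, map_add]

theorem slice_counit (x : H) : slice (Coalgebra.counit (R := k)) x = x := by
  rw [slice_apply, ev2, LinearMap.comp_apply, Coalgebra.lTensor_counit_comul]
  simp

theorem slice_one (f : H →ₗ[k] k) : slice f 1 = f 1 • (1 : H) := by
  rw [slice_apply, Bialgebra.comul_one, Algebra.TensorProduct.one_def, ev2_tmul]

theorem slice_slice (f g : H →ₗ[k] k) (x : H) : slice f (slice g x) = slice (f ∘ₗ slice g) x := by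
  let Φ : H ⊗[k] (H ⊗[k] H) →ₗ[k] H := ev2 f ∘ₗ (ev2 g).lTensor H
  have h1 : ∀ t : H ⊗[k] H, Φ ((TensorProduct.assoc k H H H).toLinearMap (Coalgebra.comul.rTensor H t)) =
      slice f (ev2 g t) := by
    intro t
    induction t using TensorProduct.induction_on with
    | zero => simp
    | tmul a b =>
      rw [ev2_tmul, map_smul, slice_apply, LinearMap.rTensor_tmul]
      generalize Coalgebra.comul (R := k) a = s
      induction s using TensorProduct.induction_on with
      | zero => simp
      | tmul p q => simp [Φ, smul_smul, mul_comm]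
      | add s t hs ht => rw [TensorProduct.add_tmul, map_add, map_add, hs, ht, map_add, smul_add]
    | add s t hs ht => simp only [map_add, hs, ht]
  have h2 : ∀ t : H ⊗[k] H, Φ (Coalgebra.comul.lTensor H t) = ev2 (f ∘ₗ slice g) t := by
    intro t
    induction t using TensorProduct.induction_on with
    | zero => simp
    | tmul a b => simp [Φ, slice_apply]
    | add s t hs ht => simp only [map_add, hs, ht]
  rw [slice_apply g, ← h1, slice_apply (f ∘ₗ slice g), ← h2]
  exact congrArg Φ (Coalgebra.coassoc_apply x)

/-- Slices of a product with a primitive element. -/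
theorem slice_mul_of_primitive {v : H} (hv : Coalgebra.comul (R := k) v = v ⊗ₜ (1 : H) + (1 : H) ⊗ₜ v)
    (f : H →ₗ[k] k) (y : H) :
    slice f (v * y) = v * slice f y + slice (f ∘ₗ LinearMap.mulLeft k v) y := by
  simp only [slice_apply, Bialgebra.comul_mul, hv]
  generalize Coalgebra.comul (R := k) y = t
  induction t using TensorProduct.induction_on with
  | zero => simp
  | tmul p q =>
    simp [add_mul, Algebra.TensorProduct.tmul_mul_tmul]
  | add s t hs ht => rw [mul_add, map_add, hs, ht, map_add, map_add, mul_add]; abel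

theorem counit_of_primitive {v : H} (hv : Coalgebra.comul (R := k) v = v ⊗ₜ (1 : H) + (1 : H) ⊗ₜ v) :
    Coalgebra.counit (R := k) v = 0 := by
  have h := slice_counit (k := k) v
  rw [slice_apply, hv, map_add, ev2_tmul, ev2_tmul, Bialgebra.counit_one, one_smul, add_eq_left] at h
  simpa using congrArg (Coalgebra.counit (R := k)) h

section cocomm

variable [Coalgebra.IsCocomm k H]

theorem apply_slice_comm (f g : H →ₗ[k] k) (x : H) : g (slice f x) = f (slice g x) := by
  have key : ∀ t : H ⊗[k] H, g (ev2 f t) = f (ev2 g (TensorProduct.comm k H H t)) := by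
    intro t
    induction t using TensorProduct.induction_on with
    | zero => simp
    | tmul a b => simp [mul_comm]
    | add s t hs ht => simp only [map_add, hs, ht]
  rw [slice_apply, slice_apply, key, Coalgebra.comm_comul]

theorem slice_comm (f g : H →ₗ[k] k) (x : H) : slice f (slice g x) = slice g (slice f x) := by
  rw [slice_slice, slice_slice]
  congr 2
  ext y
  exact apply_slice_comm g f y

/-- A subspace stable under slices is a subcoalgebra. -/
theorem comul_mem_range_of_stable {M : Submodule k H} (hM : ∀ f : H →ₗ[k] k, ∀ x ∈ M, slice f x ∈ M) {d : H} (hd : d ∈ M) :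
    Coalgebra.comul (R := k) d ∈ LinearMap.range (TensorProduct.map M.subtype M.subtype) := by
  obtain ⟨π, hπ⟩ := LinearMap.exists_leftInverse_of_injective M.subtype M.ker_subtype
  let P : H →ₗ[k] H := M.subtype ∘ₗ π
  have hP : ∀ x ∈ M, P x = x := fun x hx => congrArg Subtype.val (LinearMap.congr_fun hπ ⟨x, hx⟩)
  set t := Coalgebra.comul (R := k) d with ht
  have h1 : TensorProduct.map P LinearMap.id t = t := by
    rw [← sub_eq_zero]
    refine ev2_ext fun f => ?_
    have : ∀ s : H ⊗[k] H, ev2 f (TensorProduct.map P LinearMap.id s) = P (ev2 f s) := by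
      intro s
      induction s using TensorProduct.induction_on with
      | zero => simp
      | tmul a b => simp
      | add s t hs ht => simp only [map_add, hs, ht]
    rw [map_sub, this, ht, ← slice_apply, hP _ (hM f d hd), sub_self]
  have h2 : TensorProduct.map LinearMap.id P t = t := by
    have : ∀ s : H ⊗[k] H, TensorProduct.map LinearMap.id P (TensorProduct.comm k H H s) =
        TensorProduct.comm k H H (TensorProduct.map P LinearMap.id s) := by
      intro s
      induction s using TensorProduct.induction_on with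
      | zero => simp
      | tmul a b => simp
      | add s t hs ht => simp only [map_add, hs, ht]
    have := this t
    rwa [h1, ht, Coalgebra.comm_comul] at this
  refine ⟨TensorProduct.map π π t, ?_⟩
  rw [← LinearMap.comp_apply, ← TensorProduct.map_comp]
  show TensorProduct.map P P t = t
  conv_lhs => rw [← h2]
  rw [← LinearMap.comp_apply, ← TensorProduct.map_comp, LinearMap.comp_id]
  conv_lhs =>
    rw [show TensorProduct.map P (P ∘ₗ P) = TensorProduct.map P LinearMap.id ∘ₗ TensorProduct.map LinearMap.id P from by
      rw [← TensorProduct.map_comp, LinearMap.id_comp, LinearMap.comp_id]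
      congr 1
      ext x
      exact hP _ (π x).2]
  rw [LinearMap.comp_apply, h2, h1]

end cocomm

/-! ### Monomials in primitive elements -/

variable {ι : Type w} [LinearOrder ι] (v : ι → H)

/-- The ordered monomial of a multiset. -/
noncomputable def mon (s : Multiset ι) : H := ((s.sort (· ≤ ·)).map v).prod

@[simp] theorem mon_zero : mon v 0 = 1 := by simp [mon]

theorem mon_cons {i : ι} {s : Multiset ι} (h : ∀ j ∈ s, i ≤ j) : mon v (i ::ₘ s) = v i * mon v s := by
  rw [mon, Multiset.sort_cons _ _ _ h, List.map_cons, List.prod_cons, mon]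

@[simp] theorem mon_singleton (i : ι) : mon v {i} = v i := by simp [mon]

variable {v} (hv : ∀ i, Coalgebra.comul (R := k) (v i) = v i ⊗ₜ (1 : H) + (1 : H) ⊗ₜ v i)

include hv in
theorem slice_mon (f : H →ₗ[k] k) (s : Multiset ι) :
    slice f (mon v s) = (s.antidiagonal.map fun p => f (mon v p.2) • mon v p.1).sum := by
  suffices ∀ l : List ι, l.Pairwise (· ≤ ·) → ∀ f : H →ₗ[k] k,
      slice f (mon v (l : Multiset ι)) = ((l : Multiset ι).antidiagonal.map fun p => f (mon v p.2) • mon v p.1).sum by
    simpa using this (s.sort (· ≤ ·)) (Multiset.pairwise_sort _ _) f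
  intro l
  induction l with
  | nil => intro _ f; simp [slice_one]
  | cons i l ih =>
    intro hl f
    rw [List.pairwise_cons] at hl
    have hle : ∀ j ∈ (l : Multiset ι), i ≤ j := fun j hj => hl.1 j hj
    rw [← Multiset.cons_coe, mon_cons v hle, slice_mul_of_primitive (hv i), ih hl.2, ih hl.2,
      Multiset.antidiagonal_cons, Multiset.map_add, Multiset.sum_add, Multiset.map_map, Multiset.map_map,
      add_comm (Multiset.sum _) (Multiset.sum _), ← Multiset.sum_map_mul_left]
    refine congrArg₂ (· + ·) (congrArg Multiset.sum (Multiset.map_congr rfl fun p hp => ?_))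
      (congrArg Multiset.sum (Multiset.map_congr rfl fun p hp => ?_))
    · have hsub : ∀ j ∈ p.1, i ≤ j := fun j hj => hle j (by rw [← Multiset.mem_antidiagonal.1 hp]; simp [hj])
      simp [mon_cons v hsub]
    · have hsub : ∀ j ∈ p.2, i ≤ j := fun j hj => hle j (by rw [← Multiset.mem_antidiagonal.1 hp]; simp [hj])
      simp [mon_cons v hsub]

/-- The number of ways of cutting `b + c` into `b` and `c`. -/
noncomputable def N (k : Type u) [Field k] {ι : Type w} [LinearOrder ι] (b c : Multiset ι) : k :=
  ((b + c).antidiagonal.count (b, c) : k)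

theorem N_ne_zero [CharZero k] (b c : Multiset ι) : N k b c ≠ 0 := by
  rw [N, Nat.cast_ne_zero, ← Nat.pos_iff_ne_zero, Multiset.count_pos, Multiset.mem_antidiagonal]

include hv in
theorem pair_mon (φ ψ : H →ₗ[k] k) (b c u : Multiset ι)
    (h : ∀ p ∈ u.antidiagonal, ψ (mon v p.2) * φ (mon v p.1) = if p = (b, c) then 1 else 0) :
    φ (slice ψ (mon v u)) = if b + c = u then N k b c else 0 := by
  rw [slice_mon hv, map_multiset_sum, Multiset.map_map,
    Multiset.map_congr rfl (g := fun p => if p = (b, c) then (1 : k) else 0) fun p hp => by simpa using h p hp]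
  by_cases hu : b + c = u
  · subst hu
    rw [if_pos rfl, N]
    generalize (b + c).antidiagonal = A
    induction A using Multiset.induction_on with
    | empty => simp
    | cons a A ih =>
      rw [Multiset.map_cons, Multiset.sum_cons, ih, Multiset.count_cons]
      by_cases ha : a = (b, c) <;> simp [ha, Ne.symm, add_comm]
  · rw [if_neg hu]
    refine Multiset.sum_eq_zero fun x hx => ?_
    obtain ⟨p, hp, rfl⟩ := Multiset.mem_map.1 hx
    rw [if_neg]
    rintro rfl
    exact hu (Multiset.mem_antidiagonal.1 hp)

theorem exists_dual {S : Set (Multiset ι)} (h : LinearIndepOn k (mon v) S) (b : Multiset ι) :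
    ∃ φ : H →ₗ[k] k, ∀ u ∈ S, φ (mon v u) = if u = b then 1 else 0 := by
  classical
  let g := (linearIndependent_iff'.mp (show LinearIndependent k (fun u : S => mon v u.1) from h))
  let B := Module.Basis.span (show LinearIndependent k (fun u : S => mon v u.1) from h)
  obtain ⟨φ, hφ⟩ := LinearMap.exists_extend (B.constr k fun u : S => if u.1 = b then (1 : k) else 0)
  refine ⟨φ, fun u hu => ?_⟩
  have := LinearMap.congr_fun hφ (B ⟨u, hu⟩)
  rw [LinearMap.comp_apply, Module.Basis.constr_basis, Submodule.subtype_apply, Module.Basis.span_apply] at this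
  exact this

include hv in
theorem linearIndependent_mon [CharZero k] (hli : LinearIndependent k v) : LinearIndependent k (mon v) := by
  classical
  suffices ∀ n : ℕ, LinearIndepOn k (mon v) {s : Multiset ι | Multiset.card s ≤ n} by
    rw [linearIndependent_iff']
    intro T c hc s hs
    have := linearIndepOn_iff'.1 (this (T.sup Multiset.card)) T c
      (fun u hu => show Multiset.card u ≤ T.sup Multiset.card from Finset.le_sup (f := Multiset.card) hu) hc
    exact this s hs
  have hε : ∀ i, Coalgebra.counit (R := k) (v i) = 0 := fun i => counit_of_primitive (hv i)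
  intro n
  induction n with
  | zero =>
    rw [linearIndepOn_iff']
    intro T c hT hc s hs
    have h0 : ∀ u ∈ T, u = 0 := fun u hu => Multiset.card_eq_zero.1 (Nat.le_zero.1 (hT hu))
    have := congrArg (Coalgebra.counit (R := k)) hc
    rw [map_sum, map_zero, Finset.sum_eq_single s (fun u hu hne => absurd ((h0 u hu).trans (h0 s hs).symm) hne)
      (fun h => absurd hs h)] at this
    simpa [h0 s hs] using this
  | succ n ih =>
    rw [linearIndepOn_iff']
    intro T c hT hc
    have htop : ∀ s ∈ T, Multiset.card s = n + 1 → c s = 0 := by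
      intro s hs hcard
      rcases Nat.eq_zero_or_pos n with rfl | hn
      · obtain ⟨i, rfl⟩ := Multiset.card_eq_one.1 hcard
        have hi : Coalgebra.counit (R := k) (v i) = 0 := hε i
        have hlo : ∀ u ∈ T, u = 0 ∨ ∃ j, u = {j} := fun u hu => by
          rcases Nat.le_one_iff_eq_zero_or_eq_one.1 (hT hu) with h | h
          · exact Or.inl (Multiset.card_eq_zero.1 h)
          · exact Or.inr (Multiset.card_eq_one.1 h)
        obtain ⟨φ, hφ⟩ := LinearMap.exists_extend
          ((Module.Basis.span hli).constr k fun j : ι => if j = i then (1 : k) else 0)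
        have hφv : ∀ j, φ (v j) = if j = i then (1 : k) else 0 := fun j => by
          have := LinearMap.congr_fun hφ (Module.Basis.span hli j)
          rw [LinearMap.comp_apply, Module.Basis.constr_basis, Submodule.subtype_apply, Module.Basis.span_apply] at this
          exact this
        let φ' : H →ₗ[k] k := φ - φ 1 • Coalgebra.counit
        have key : ∀ u ∈ T, φ' (mon v u) = if u = ({i} : Multiset ι) then (1 : k) else 0 := by
          intro u hu
          rcases hlo u hu with rfl | ⟨j, rfl⟩
          · simp [φ', (Multiset.singleton_ne_zero i).symm]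
          · simp [φ', hε, hφv]
        have := congrArg φ' hc
        rw [map_sum, map_zero, Finset.sum_congr rfl (fun u hu => by rw [map_smul, key u hu])] at this
        simpa [hs] using this
      · obtain ⟨i, hi⟩ := Multiset.card_pos_iff_exists_mem.1 (show 0 < Multiset.card s by omega)
        obtain ⟨s', rfl⟩ := Multiset.exists_cons_of_mem hi
        rw [Multiset.card_cons, add_left_inj] at hcard
        obtain ⟨φ, hφ⟩ := exists_dual ih {i}
        obtain ⟨ψ, hψ⟩ := exists_dual ih s'
        have hzero : (0 : Multiset ι) ∈ {s : Multiset ι | Multiset.card s ≤ n} := Nat.zero_le _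
        have h1 : φ 1 = 0 := by simpa [(Multiset.singleton_ne_zero i).symm] using hφ 0 hzero
        have h2 : ψ 1 = 0 := by
          have hs' : (0 : Multiset ι) ≠ s' := fun h => by rw [← h] at hcard; simp at hcard; omega
          simpa [hs'] using hψ 0 hzero
        have key : ∀ u ∈ T, φ (slice ψ (mon v u)) = if u = i ::ₘ s' then N k {i} s' else 0 := by
          intro u hu
          rw [pair_mon hv φ ψ {i} s' u fun p hp => ?_]
          · simp only [Multiset.singleton_add, eq_comm]
          · have hp' := Multiset.mem_antidiagonal.1 hp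
            have hcu : Multiset.card p.1 + Multiset.card p.2 ≤ n + 1 := by
              rw [← Multiset.card_add, hp']; exact hT hu
            have hne : p.1 = 0 ∨ p.2 = 0 → p ≠ ({i}, s') := by
              rintro h rfl
              rcases h with h | h
              · exact Multiset.singleton_ne_zero i h
              · simp only at h; rw [h] at hcard; simp at hcard; omega
            rcases eq_or_ne p.1 0 with e1 | e1
            · rw [e1, mon_zero, h1, mul_zero, if_neg (hne (Or.inl e1))]
            rcases eq_or_ne p.2 0 with e2 | e2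
            · rw [e2, mon_zero, h2, zero_mul, if_neg (hne (Or.inr e2))]
            have c1 := Multiset.card_pos.2 e1
            have c2 := Multiset.card_pos.2 e2
            rw [hφ p.1 (show Multiset.card p.1 ≤ n by omega), hψ p.2 (show Multiset.card p.2 ≤ n by omega),
              ite_zero_mul_ite_zero, mul_one]
            simp only [Prod.ext_iff, and_comm]
        have := congrArg (fun y => φ (slice ψ y)) hc
        simp only [map_sum, map_smul, map_zero] at this
        rw [Finset.sum_congr rfl (fun u hu => by rw [key u hu])] at this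
        simpa [hs, N_ne_zero] using this
    intro s hs
    by_cases hcard : Multiset.card s = n + 1
    · exact htop s hs hcard
    · have hsum : ∑ u ∈ T.filter (fun u => Multiset.card u ≤ n), c u • mon v u = 0 := by
        rw [← hc, Finset.sum_filter]
        refine Finset.sum_congr rfl fun u hu => ?_
        split_ifs with h
        · rfl
        · rw [htop u hu (le_antisymm (hT hu) (by omega)), zero_smul]
      refine linearIndepOn_iff'.1 ih _ c (fun u hu => (Finset.mem_filter.1 hu).2) hsum s
        (Finset.mem_filter.2 ⟨hs, ?_⟩)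
      have h1 : Multiset.card s ≤ n + 1 := hT hs
      show Multiset.card s ≤ n
      omega

variable [Coalgebra.IsCocomm k H]

theorem eq_smul_one_of_coord [CharZero k] {φ : Multiset ι → H →ₗ[k] k}
    (hφ : ∀ b u, φ b (mon v u) = if u = b then 1 else 0) {y : H}
    (hy : y ∈ Submodule.span k (Set.range (mon v))) (h : ∀ b ≠ 0, φ b y = 0) : y = φ 0 y • (1 : H) := by
  classical
  obtain ⟨c, rfl⟩ := Finsupp.mem_span_range_iff_exists_finsupp.1 hy
  have hc : ∀ b, φ b (c.sum fun u a => a • mon v u) = c b := fun b => by
    rw [map_finsuppSum]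
    simp only [map_smul, hφ, smul_eq_mul, mul_ite, mul_one, mul_zero]
    exact Finsupp.sum_ite_self_eq' c b
  rw [hc, Finsupp.sum, Finset.sum_eq_single (0 : Multiset ι)]
  · rw [mon_zero]
  · intro b _ hb
    rw [← hc b, h b hb, zero_smul]
  · intro h0
    rw [Finsupp.notMem_support_iff.1 h0, zero_smul]

include hv in
/-- An element whose slices by functionals killing `1` are combinations of monomials is one itself. -/
theorem mem_span_of_slices [CharZero k] (hli : LinearIndependent k v)
    (hspan : ∀ z : H, Coalgebra.comul (R := k) z = z ⊗ₜ (1 : H) + (1 : H) ⊗ₜ z → z ∈ Submodule.span k (Set.range v))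
    {x : H} (hx : ∀ f : H →ₗ[k] k, f 1 = 0 → slice f x ∈ Submodule.span k (Set.range (mon v))) :
    x ∈ Submodule.span k (Set.range (mon v)) := by
  classical
  set B := Submodule.span k (Set.range (mon v)) with hB
  have h1B : (1 : H) ∈ B := Submodule.subset_span ⟨0, mon_zero v⟩
  have hBst : ∀ f : H →ₗ[k] k, ∀ y ∈ B, slice f y ∈ B := by
    intro f y hy
    refine (Submodule.map_le_iff_le_comap (f := slice f) (q := B)).1 ?_ hy
    rw [hB, Submodule.map_span, Submodule.span_le]
    rintro _ ⟨_, ⟨s, rfl⟩, rfl⟩
    rw [SetLike.mem_coe, slice_mon hv]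
    refine multiset_sum_mem _ fun z hz => ?_
    obtain ⟨p, -, rfl⟩ := Multiset.mem_map.1 hz
    exact Submodule.smul_mem _ _ (Submodule.subset_span ⟨_, rfl⟩)
  have hli' := linearIndependent_mon hv hli
  choose φ hφ' using fun b => exists_dual (S := Set.univ) (linearIndepOn_univ.2 hli') b
  have hφ : ∀ b u, φ b (mon v u) = if u = b then 1 else 0 := fun b u => hφ' b u trivial
  have hφ1 : ∀ b ≠ 0, φ b 1 = 0 := fun b hb => by rw [← mon_zero v, hφ, if_neg (Ne.symm hb)]
  have hpair : ∀ b c s, φ b (slice (φ c) (mon v s)) = if b + c = s then N k b c else 0 := fun b c s =>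
    pair_mon hv _ _ b c s fun p _ => by
      rw [hφ, hφ, ite_zero_mul_ite_zero, mul_one]; simp only [Prod.ext_iff, and_comm]
  have hprod : ∀ b c, ∀ y ∈ B, φ b (slice (φ c) y) = N k b c * φ (b + c) y := by
    intro b c y hy
    refine LinearMap.eqOn_span (f := φ b ∘ₗ slice (φ c)) (g := N k b c • φ (b + c)) ?_ hy
    rintro _ ⟨s, rfl⟩
    simp [hpair, hφ, eq_comm]
  -- the coordinates of `Δ y`
  let t : H → Multiset ι → Multiset ι → k := fun y b c => φ b (slice (φ c) y)
  have hsymm : ∀ y b c, t y b c = t y c b := fun y b c => apply_slice_comm (φ c) (φ b) y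
  have hkey : ∀ y, (∀ f : H →ₗ[k] k, f 1 = 0 → slice f y ∈ B) → ∀ a b c, a ≠ 0 → c ≠ 0 →
      N k a b * t y (a + b) c = N k b c * t y a (b + c) := by
    intro y hy a b c ha hc
    calc N k a b * t y (a + b) c = φ a (slice (φ b) (slice (φ c) y)) :=
          (hprod a b _ (hy _ (hφ1 c hc))).symm
      _ = φ b (slice (φ a) (slice (φ c) y)) := apply_slice_comm (φ b) (φ a) _
      _ = φ b (slice (φ c) (slice (φ a) y)) := by rw [slice_comm]
      _ = N k b c * t y (b + c) a := hprod b c _ (hy _ (hφ1 a ha))
      _ = N k b c * t y a (b + c) := by rw [hsymm y a]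
  have htmon : ∀ b c, t (mon v (b + c)) b c = N k b c := fun b c => by simp [t, hpair]
  have hN : ∀ a b c : Multiset ι, a ≠ 0 → c ≠ 0 →
      N k a b * N k (a + b) c = N k b c * N k a (b + c) := fun a b c ha hc => by
    have := hkey (mon v (a + b + c)) (fun f _ => hBst f _ (Submodule.subset_span ⟨_, rfl⟩)) a b c ha hc
    rwa [htmon, add_assoc, htmon] at this
  have hNs : ∀ b c : Multiset ι, N k b c = N k c b := fun b c => by
    rw [← htmon, hsymm, add_comm, htmon]
  let u : Multiset ι → Multiset ι → k := fun b c => t x b c / N k b c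
  have hu : ∀ a b c, a ≠ 0 → c ≠ 0 → u (a + b) c = u a (b + c) := by
    intro a b c ha hc
    have h := hkey x hx a b c ha hc
    have h' := hN a b c ha hc
    simp only [u]
    rw [div_eq_div_iff (N_ne_zero _ _) (N_ne_zero _ _)]
    refine mul_left_cancel₀ (N_ne_zero (k := k) a b) ?_
    linear_combination (N k a (b + c)) * h - (t x a (b + c)) * h'
  have hus : ∀ b c, u b c = u c b := fun b c => by simp only [u]; rw [hsymm, hNs]
  have hij : ∀ i j (r : Multiset ι), u {i} (j ::ₘ r) = u {j} (i ::ₘ r) := by
    intro i j r
    rcases eq_or_ne r 0 with rfl | hr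
    · exact hus {i} {j}
    · rw [← Multiset.singleton_add, ← hu {i} {j} r (Multiset.singleton_ne_zero i) hr, add_comm,
        hu {j} {i} r (Multiset.singleton_ne_zero j) hr, Multiset.singleton_add]
  let g : Multiset ι → k := fun s => if h : ∃ i, i ∈ s then u {h.choose} (s.erase h.choose) else 0
  have hg : ∀ b c, b ≠ 0 → c ≠ 0 → u b c = g (b + c) := by
    intro b c hb hc
    obtain ⟨i, hi⟩ := Multiset.exists_mem_of_ne_zero hb
    obtain ⟨b', rfl⟩ := Multiset.exists_cons_of_mem hi
    have hex : ∃ j, j ∈ i ::ₘ b' + c := ⟨i, by simp⟩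
    have e : u (i ::ₘ b') c = u {i} (b' + c) := by
      rw [← Multiset.singleton_add, hu {i} b' c (Multiset.singleton_ne_zero i) hc]
    simp only [g, dif_pos hex]
    rw [e]
    set j := hex.choose
    have hj : j ∈ i ::ₘ b' + c := hex.choose_spec
    rcases eq_or_ne j i with hji | hji
    · rw [hji, Multiset.cons_add, Multiset.erase_cons_head]
    · rw [Multiset.cons_add, Multiset.mem_cons, or_iff_right hji] at hj
      obtain ⟨r, hr⟩ := Multiset.exists_cons_of_mem hj
      rw [Multiset.cons_add, Multiset.erase_cons_tail _ hji.symm, hr, Multiset.erase_cons_head]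
      exact hij i j r
  -- a finite set of monomials containing all slices
  obtain ⟨S, hS⟩ : ∃ S : Finset (Multiset ι), ∀ f : H →ₗ[k] k, f 1 = 0 →
      slice f x ∈ Submodule.span k (mon v '' S) := by
    let ev : (H →ₗ[k] k) →ₗ[k] H :=
      { toFun := fun f => slice f x
        map_add' := fun f g => by simp [slice_apply, ev2, LinearMap.lTensor_add]
        map_smul' := fun r f => by simp [slice_apply, ev2, LinearMap.lTensor_smul] }
    obtain ⟨T, hT⟩ := TensorProduct.exists_finset (Coalgebra.comul (R := k) x)
    let V : Submodule k H := (LinearMap.range ev) ⊓ B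
    have : FiniteDimensional k (Submodule.span k ((T.image Prod.fst : Finset H) : Set H)) :=
      FiniteDimensional.span_finset k _
    have : FiniteDimensional k V := by
      refine Submodule.finiteDimensional_of_le (S₂ := Submodule.span k ((T.image Prod.fst : Finset H) : Set H)) ?_
      rintro _ ⟨⟨f, rfl⟩, -⟩
      show slice f x ∈ _
      rw [slice_apply, hT, map_sum]
      refine Submodule.sum_mem _ fun p hp => ?_
      rw [ev2_tmul]
      exact Submodule.smul_mem _ _ (Submodule.subset_span (Finset.mem_image_of_mem _ hp))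
    obtain ⟨G, hG⟩ := (Module.Finite.iff_fg.1 this : V.FG)
    have hGB : ∀ z ∈ G, z ∈ B := fun z hz => (hG ▸ Submodule.subset_span hz : z ∈ V).2
    choose! c hc using fun z hz => Finsupp.mem_span_range_iff_exists_finsupp.1 (hGB z hz)
    refine ⟨G.biUnion fun z => (c z).support, fun f hf => ?_⟩
    have hle : V ≤ Submodule.span k (mon v '' (G.biUnion fun z => (c z).support : Finset (Multiset ι))) := by
      rw [← hG, Submodule.span_le]
      intro z hz
      rw [SetLike.mem_coe, ← hc z hz]
      exact Submodule.sum_mem _ fun s hs => Submodule.smul_mem _ _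
        (Submodule.subset_span ⟨s, Finset.mem_coe.2 (Finset.mem_biUnion.2 ⟨z, hz, hs⟩), rfl⟩)
    exact hle ⟨⟨f, rfl⟩, hx f hf⟩
  have hS0 : ∀ b c, c ≠ 0 → b ∉ S → t x b c = 0 := by
    intro b c hc hb
    refine LinearMap.eqOn_span (f := φ b) (g := (0 : H →ₗ[k] k)) ?_ (hS _ (hφ1 c hc))
    rintro _ ⟨s, hs, rfl⟩
    rw [hφ, if_neg (fun h : s = b => hb (h ▸ hs)), LinearMap.zero_apply]
  let SS : Finset (Multiset ι) := (S ×ˢ S).image fun p => p.1 + p.2
  let y : H := ∑ s ∈ SS, g s • mon v s
  have hyB : y ∈ B := Submodule.sum_mem _ fun s _ => Submodule.smul_mem _ _ (Submodule.subset_span ⟨_, rfl⟩)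
  have hty : ∀ b c, b ≠ 0 → c ≠ 0 → t y b c = t x b c := by
    intro b c hb hc
    simp only [t, y, map_sum, map_smul, hpair, smul_eq_mul, mul_ite, mul_zero, Finset.sum_ite_eq]
    split_ifs with h
    · rw [← hg b c hb hc]
      exact div_mul_cancel₀ _ (N_ne_zero _ _)
    · by_cases hbS : b ∈ S
      · by_cases hcS : c ∈ S
        · exact absurd (Finset.mem_image.2 ⟨(b, c), Finset.mem_product.2 ⟨hbS, hcS⟩, rfl⟩) h
        · show (0 : k) = t x b c
          rw [hsymm, hS0 c b hb hcS]
      · exact (hS0 b c hc hbS).symm
  let w : H := x - y - Coalgebra.counit (R := k) (x - y) • (1 : H)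
  have hwε : Coalgebra.counit (R := k) w = 0 := by simp [w]
  have hw : ∀ f : H →ₗ[k] k, f 1 = 0 → slice f w ∈ B := fun f hf => by
    simp only [w, map_sub, map_smul, slice_one, hf, zero_smul, smul_zero, sub_zero]
    exact sub_mem (hx f hf) (hBst f y hyB)
  have htw : ∀ b c, b ≠ 0 → c ≠ 0 → t w b c = 0 := fun b c hb hc => by
    have := hty b c hb hc
    simp only [t] at this ⊢
    simp only [w, map_sub, map_smul, slice_one, hφ1 c hc, zero_smul, smul_zero, map_zero, this, sub_self]
  have hsl : ∀ f : H →ₗ[k] k, f 1 = 0 → slice f w = f w • (1 : H) := by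
    intro f hf
    have hc0 : ∀ b ≠ 0, φ b (slice f w) = 0 := by
      intro b hb
      rw [apply_slice_comm, eq_smul_one_of_coord hφ (hw _ (hφ1 b hb)) (fun c hc => htw c b hc hb),
        map_smul, hf, smul_zero]
    have e := eq_smul_one_of_coord hφ (hw f hf) hc0
    have : φ 0 (slice f w) = f w := by
      have h2 := congrArg (Coalgebra.counit (R := k)) e
      rw [apply_slice_comm, slice_counit, map_smul, Bialgebra.counit_one, smul_eq_mul, mul_one] at h2
      exact h2.symm
    rwa [this] at e
  have hprim : Coalgebra.comul (R := k) w = w ⊗ₜ (1 : H) + (1 : H) ⊗ₜ w := by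
    rw [← sub_eq_zero]
    refine ev2_ext fun f => ?_
    let f' : H →ₗ[k] k := f - f 1 • Coalgebra.counit
    have h := hsl f' (by simp [f'])
    have e : slice f' w = slice f w - f 1 • w := by
      conv_rhs => rw [← slice_counit (k := k) w, slice_apply f, slice_apply]
      simp [f', slice_apply, ev2, LinearMap.lTensor_sub, LinearMap.lTensor_smul]
    rw [e, sub_eq_iff_eq_add, LinearMap.sub_apply, LinearMap.smul_apply, hwε, smul_zero, sub_zero] at h
    rw [map_sub, map_add, ev2_tmul, ev2_tmul, ← slice_apply, h]
    abel
  have hwB : w ∈ B := by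
    refine Submodule.span_le.2 ?_ (hspan w hprim)
    rintro _ ⟨i, rfl⟩
    exact Submodule.subset_span ⟨{i}, mon_singleton v i⟩
  have : x = w + y + Coalgebra.counit (R := k) (x - y) • (1 : H) := by simp only [w]; abel
  rw [this]
  exact add_mem (add_mem hwB hyB) (Submodule.smul_mem _ _ h1B)

include hv in
/-- In a connected cocommutative bialgebra the monomials span. -/
theorem span_mon_eq_top [CharZero k] (hli : LinearIndependent k v)
    (hspan : ∀ z : H, Coalgebra.comul (R := k) z = z ⊗ₜ (1 : H) + (1 : H) ⊗ₜ z → z ∈ Submodule.span k (Set.range v))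
    (hconn : ∀ D : Submodule k H, (∀ d ∈ D, Coalgebra.comul (R := k) d ∈
      LinearMap.range (TensorProduct.map D.subtype D.subtype)) → D ≠ ⊥ → (1 : H) ∈ D) :
    Submodule.span k (Set.range (mon v)) = ⊤ := by
  classical
  set B := Submodule.span k (Set.range (mon v)) with hB
  have key : ∀ n, ∀ M : Submodule k H, ∀ _ : FiniteDimensional k M, Module.finrank k M = n →
      (∀ f : H →ₗ[k] k, ∀ y ∈ M, slice f y ∈ M) → M ≤ B := by
    intro n
    induction n using Nat.strong_induction_on with
    | _ n ih =>
      intro M _ hn hst x hx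
      refine mem_span_of_slices hv hli hspan fun f hf => ?_
      by_cases hM : M = ⊥
      · rw [hM, Submodule.mem_bot] at hx; rw [hx, map_zero]; exact zero_mem _
      have hmap : M.map (slice f) ≤ M := Submodule.map_le_iff_le_comap.2 fun y hy => hst f y hy
      have hst' : ∀ g : H →ₗ[k] k, ∀ y ∈ M.map (slice f), slice g y ∈ M.map (slice f) := by
        rintro g _ ⟨y, hy, rfl⟩
        exact ⟨slice g y, hst g y hy, slice_comm f g y⟩
      have hlt : M.map (slice f) < M := by
        refine lt_of_le_of_ne hmap fun he => ?_
        let r : M →ₗ[k] M := (slice f).restrict fun y hy => hst f y hy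
        have hsurj : Function.Surjective r := by
          intro z
          obtain ⟨y, hy, hyz⟩ := he.ge z.2
          exact ⟨⟨y, hy⟩, Subtype.ext hyz⟩
        have hinj : Function.Injective r := LinearMap.injective_iff_surjective.2 hsurj
        have h1 : (1 : H) ∈ M := hconn M (fun d hd => comul_mem_range_of_stable hst hd) hM
        have : r ⟨1, h1⟩ = 0 := Subtype.ext (by simp [r, slice_one, hf])
        have h10 : (1 : H) = 0 := congrArg Subtype.val (hinj (this.trans (map_zero r).symm))
        simpa using congrArg (Coalgebra.counit (R := k)) h10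
      have : FiniteDimensional k (M.map (slice f)) := Submodule.finiteDimensional_of_le hmap
      exact ih _ (hn ▸ Submodule.finrank_lt_finrank_of_lt hlt) _ this rfl hst' ⟨x, hx, rfl⟩
  rw [eq_top_iff]
  intro x _
  let ev : (H →ₗ[k] k) →ₗ[k] H :=
    { toFun := fun f => slice f x
      map_add' := fun f g => by simp [slice_apply, ev2, LinearMap.lTensor_add]
      map_smul' := fun r f => by simp [slice_apply, ev2, LinearMap.lTensor_smul] }
  obtain ⟨T, hT⟩ := TensorProduct.exists_finset (Coalgebra.comul (R := k) x)
  have : FiniteDimensional k (Submodule.span k ((T.image Prod.fst : Finset H) : Set H)) :=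
    FiniteDimensional.span_finset k _
  have : FiniteDimensional k (LinearMap.range ev) := by
    refine Submodule.finiteDimensional_of_le (S₂ := Submodule.span k ((T.image Prod.fst : Finset H) : Set H)) ?_
    rintro _ ⟨f, rfl⟩
    show slice f x ∈ _
    rw [slice_apply, hT, map_sum]
    refine Submodule.sum_mem _ fun p hp => ?_
    rw [ev2_tmul]
    exact Submodule.smul_mem _ _ (Submodule.subset_span (Finset.mem_image_of_mem _ hp))
  refine key _ _ this rfl ?_ ⟨Coalgebra.counit, slice_counit x⟩
  rintro f _ ⟨g, rfl⟩
  exact ⟨f ∘ₗ slice g, (slice_slice f g x).symm⟩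

end Groth.Agent.MilnorMoore
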