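import Groth.Agent.MilnorMoore.Basic

/-!
Ordered monomials span an algebra generated by elements with commutators in their linear span.
-/

namespace Groth.Agent.MilnorMoore

universe u v w

variable {k : Type u} [Field k] {A : Type v} [Ring A] [Algebra k A] {ι : Type w} [LinearOrder ι] {x : ι → A}

theorem prod_mem_span_mon (hcomm : ∀ i j, x i * x j - x j * x i ∈ Submodule.span k (Set.range x))
    (l : List ι) : (l.map x).prod ∈ Submodule.span k (Set.range (mon x)) := by
  classical
  induction h : l.length using Nat.strong_induction_on generalizing l with
  | _ n ih =>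
    set G := Submodule.span k (Set.range (mon x)) with hG
    suffices ∀ l₁ l₂ : List ι, l₁.Perm l₂ → ∀ pre : List ι, pre.length + l₁.length = n →
        ((pre ++ l₁).map x).prod - ((pre ++ l₂).map x).prod ∈ G by
      have h' := this l ((l : Multiset ι).sort (· ≤ ·))
        (Multiset.coe_eq_coe.1 (Multiset.sort_eq (l : Multiset ι) _).symm) [] (by simpa using h)
      simp only [List.nil_append] at h'
      have hm : (((l : Multiset ι).sort (· ≤ ·)).map x).prod ∈ G := Submodule.subset_span ⟨(l : Multiset ι), rfl⟩
      simpa using add_mem h' hm
    intro l₁ l₂ hp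
    induction hp with
    | nil => intro pre _; simp
    | cons a hp ihp =>
      intro pre hpre
      simpa using ihp (pre ++ [a]) (by simp at hpre ⊢; omega)
    | swap a b r =>
      intro pre hpre
      have e : ((pre ++ b :: a :: r).map x).prod - ((pre ++ a :: b :: r).map x).prod =
          (pre.map x).prod * (x b * x a - x a * x b) * (r.map x).prod := by
        simp only [List.map_append, List.prod_append, List.map_cons, List.prod_cons]
        noncomm_ring
      rw [e]
      have key : ∀ z ∈ Submodule.span k (Set.range x), (pre.map x).prod * z * (r.map x).prod ∈ G := by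
        intro z hz
        induction hz using Submodule.span_induction with
        | mem z hz =>
          obtain ⟨i, rfl⟩ := hz
          have := ih _ (by simp at hpre ⊢; omega) (pre ++ i :: r) rfl
          simpa [mul_assoc] using this
        | zero => simp
        | add a b _ _ ha hb => rw [mul_add, add_mul]; exact add_mem ha hb
        | smul c a _ ha => rw [mul_smul_comm, smul_mul_assoc]; exact G.smul_mem c ha
      exact key _ (hcomm b a)
    | trans h₁ h₂ ih₁ ih₂ =>
      intro pre hpre
      simpa using add_mem (ih₁ pre hpre) (ih₂ pre (h₁.length_eq ▸ hpre))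

theorem span_mon_eq_top_of_adjoin (hcomm : ∀ i j, x i * x j - x j * x i ∈ Submodule.span k (Set.range x))
    (hgen : Algebra.adjoin k (Set.range x) = ⊤) : Submodule.span k (Set.range (mon x)) = ⊤ := by
  rw [eq_top_iff, ← Algebra.top_toSubmodule, ← hgen, Algebra.adjoin_eq_span, Submodule.span_le]
  intro y hy
  obtain ⟨l, hl, rfl⟩ := Submonoid.exists_list_of_mem_closure hy
  choose f hf using hl
  have : l = (l.attach.map fun a => f a.1 a.2).map x := by
    rw [List.map_map]
    conv_lhs => rw [← List.attach_map_subtype_val l]
    exact List.map_congr_left fun a _ => (hf a.1 a.2).symm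
  rw [this]
  exact prod_mem_span_mon hcomm _

end Groth.Agent.MilnorMoore
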